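set_option autoImplicit false
namespace Cfsg.Agent.Lib.Helper6.TCD.S44aL
noncomputable def HL0 (i : Nat) : Nat := Nat.land (Nat.shiftRight 0x551000571000561000571000561000541000521000551000551000571000551000551000551000521000551000521000571000461000441000431000421000461000441000471000421000441000411000451000431000421000421000421000431000421000411000431000421000411000441000431000421000461000451000431000451000431000401000451000441000431000411000401000471000461000431000411000351000341000331000311000351000341000331000321000311000301000371000361000351000371000361000351000331000311000371000361000341000321000271000261000241000221000201000151000001 (Nat.mul 24 (Nat.land i 1023))) 16777215
end Cfsg.Agent.Lib.Helper6.TCD.S44aL
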