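set_option autoImplicit false
namespace Cfsg.Agent.Lib.Helper6.TCD.S44aL
noncomputable def HL1 (i : Nat) : Nat := Nat.land (Nat.shiftRight 0x101000000000000000000000351000000000351000421000361000301000201000241000361000261000401000361000241000331000321000161000141000001000000000451000361000321000411000441000421000000000000000000000221000000000321000241000361000321000301000221000251000351000241000331000311000311000331000201000351000261000321000211000341000151000351000231000331000251000121000000000421000521000000000351000321000421000341000301000431000331000231000261000421000461000341000000 (Nat.mul 24 (Nat.land i 1023))) 16777215
end Cfsg.Agent.Lib.Helper6.TCD.S44aL
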