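set_option autoImplicit false
namespace Cfsg.Agent.Lib.Helper6.TCD.S44aL
noncomputable def HL2 (i : Nat) : Nat := Nat.land (Nat.shiftRight 0xb11000000000000000511000911000a11000000000a11000711000311000611000000000000000211000000000911000000000000000000000601000611000000000000000711000811000000000000000000000901000000000801000401000b01000611000411000b01000000000501000000000701000000000811000111000a11000811000000000911000a01000501000b11000000000601000301000000000c01000000000000000901000000000711000711000901000411000000000201000a01000511000a11000801000000000001000000 (Nat.mul 24 (Nat.land i 1023))) 16777215
end Cfsg.Agent.Lib.Helper6.TCD.S44aL
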